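import Cfsg.Agent.PQ.Two.SP
import Cfsg.Agent.LV.Rk.Frame

/-!
# PQ, the forward rows of the symplectic and orthogonal groups (helper56)

`fw_psp`, `fw_odd`, `fw_plus`, `fw_minus`.
-/

set_option autoImplicit false
set_option linter.unusedSectionVars false
set_option maxHeartbeats 400000

namespace Cfsg.Agent.PQ.Dg

open Cfsg Cfsg.Agent.DL Cfsg.Agent.DL.PP Cfsg.Agent.KZ Cfsg.Agent.KZ.Lie Cfsg.Agent.KZ.Dat Cfsg.Agent.KZ.ClB
  Cfsg.Agent.KZ.ClD Cfsg.Agent.KZ.Dat.Om Cfsg.Agent.LV Cfsg.Agent.LV.Blk Cfsg.Agent.LV.Rk Cfsg.Agent.KM Matrix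

section

variable {p : ℕ} [Fact p.Prime] {k : Type} [Field k] [CharP k p] {Y : Type} [Group Y] {N : Type} [Fintype N]
  [DecidableEq N] {ρ : Y →* GL N k} {F : MulAut Y} {G : Subgroup Y} [IsAlgClosed k] {D : Datum p ρ F G}
  {ev : Prop} {e n : ℕ} (P : SP D (n + 1) ev) {η : ℤˣ} (hM : P.P * D.Mx = (p : ℤ) ^ e • spm 1 (lsg n η) * P.P)

include hM

theorem nt_sp : Deg.NT p ρ F := by
  have : Nonempty D.R := by
    by_contra h
    rw [not_nonempty_iff] at h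
    have h1 := congrFun (congrFun P.PP' 0) 0
    rw [mul_apply, Finset.sum_of_isEmpty, one_apply_eq] at h1
    exact zero_ne_one h1
  refine nt_of D two_pos (n := e) (P.cancel_left ?_)
  have h1 : spm 1 (lsg n η) * spm 1 (lsg n η) = 1 := by
    rw [spm_mul, mul_one, ← spm_one]
    congr 1
    funext j
    simp only [Equiv.Perm.one_apply, Pi.one_apply, Int.units_mul_self]
  rw [sq D.Mx, ← Matrix.mul_assoc, hM, Matrix.mul_assoc, hM, ← Matrix.mul_assoc, Matrix.smul_mul, Matrix.mul_smul, h1,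
    smul_smul, Matrix.smul_mul, Matrix.one_mul, Matrix.mul_smul, Matrix.mul_one, sq]

theorem fw_cv (I : Inp) (hn : 1 ≤ n) (hq : D.QS) {S : Type} [Group S] (c : Cv ↥(GF F G) S) {l q : ℕ} {M : Ideal AlgInt}
    (hI : IsPModular q M) (h : Pair l q S) (hp : l ≠ p ∧ q ≠ p) : HZ0 l M S := by
  have := Asm.finite_GF D
  have := Fintype.ofFinite ↥(GF F G)
  exact fw_sec I hq (nt_sp P hM) (d := 2) c hI h hp.1
    (fun e => h.p2 ((Nat.prime_dvd_prime_iff_eq h.pp Nat.prime_two).1 e))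
    (fun e => h.q2 ((Nat.prime_dvd_prime_iff_eq h.pq Nat.prime_two).1 e)) (Two.two_SP P (fun _ => by omega) h.pp h.pq h.p2 h.q2 hp.1 hp.2)

end

variable (I : Inp)
include I

theorem fw_psp : All (fun S _ => IsPSp S) Fw := by
  rintro S _ _ - - ⟨F, iF, iT, m, hm, h1, ⟨i⟩⟩ l q M hM h
  obtain ⟨p, hp, iC⟩ := ex_char F
  have := Fact.mk hp
  obtain ⟨k, _, _, _, hk, e, he, f, hF⟩ := hasC p F
  have h2 := h.nc p hp (.inr (.inl ⟨F, iF, iT, iC, m, hm, h1, ⟨i⟩⟩))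
  obtain ⟨n, rfl⟩ : ∃ n, m = n + 1 := ⟨m - 1, by omega⟩
  have c := (cvC f hF (n + 1)).congr i
  exact fw_cv (D := datC (n + 1) hk he) _ (mxC hk he n) I (by omega) (datC_qs hk he) c hM h h2

theorem fw_odd : All (fun S _ => IsPOmegaOdd S) Fw := by
  rintro S _ _ - - ⟨F, iF, iT, m, hm, h1, ⟨i⟩⟩ l q M hM h
  obtain ⟨p, hp, iC⟩ := ex_char F
  have := Fact.mk hp
  obtain ⟨k, _, _, _, hk, e, he, f, hF⟩ := hasC p F
  have h2 := h.nc p hp (.inr (.inr (.inr (.inl ⟨F, iF, iT, iC, m, hm, h1, ⟨i⟩⟩))))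
  obtain ⟨n, rfl⟩ : ∃ n, m = n + 1 := ⟨m - 1, by omega⟩
  have h3 : (2 : k) ≠ 0 := two_ne hF h1 he
  have c := (cvB f hF h3 (m := n + 1) (by omega)).congr i
  exact fw_cv (D := datB (n + 1) h3 hk he) _ (mxB hk he n h3) I (by omega) (datB_qs h3 hk he) c hM h h2

theorem fw_plus : All (fun S _ => IsPOmegaPlus S) Fw := by
  rintro S _ _ - - ⟨F, iF, iT, m, hm, ⟨i⟩⟩ l q M hM h
  obtain ⟨p, hp, iC⟩ := ex_char F
  have := Fact.mk hp
  obtain ⟨k, _, _, _, hk, e, he, f, hF⟩ := hasC p F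
  have h2 := h.nc p hp (.inr (.inr (.inr (.inr (.inl ⟨F, iF, iT, iC, m, hm, ⟨i⟩⟩)))))
  obtain ⟨n, rfl⟩ : ∃ n, m = n + 2 := ⟨m - 2, by omega⟩
  have c := (cvP f hF (n := n) (by omega)).congr i
  exact fw_cv (D := datP n hk he) _ (mxP hk he n) I (by omega) (datD_qs _ hk he) c hM h h2

theorem fw_minus : All (fun S _ => IsPOmegaMinus S) Fw := by
  rintro S _ _ - - ⟨F, iF, iT, m, a, b, hm, hab, ⟨i⟩⟩ l q M hM h
  obtain ⟨p, hp, iC⟩ := ex_char F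
  have := Fact.mk hp
  obtain ⟨k, _, _, _, hk, e, he, f, hF⟩ := hasC p F
  have h2 := h.nc p hp (.inr (.inr (.inr (.inr (.inr (.inl ⟨F, iF, iT, iC, m, a, b, hm, hab, ⟨i⟩⟩))))))
  obtain ⟨n, rfl⟩ : ∃ n, m = n + 2 := ⟨m - 2, by omega⟩
  have c := (cvM f hF (n := n) (by omega) hab).congr i
  exact fw_cv (D := datM n hk he) _ (mxM hk he n) I (by omega) (datD_qs _ hk he) c hM h h2

end Cfsg.Agent.PQ.Dg
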