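import Cfsg.Agent.PQ.Two.SP
import Cfsg.Agent.KM.Nt
import Cfsg.Agent.H371.HT.Three
import Cfsg.Agent.LV.Red.Main

/-!
# PQ, the forward rows of `F₄`, `E₆`, `²E₆`, `E₇`, `E₈` (helper56)

`ex_has`, `ex_f4`, `ex_e6`, `ex_e7`, `ex_e8`, `ex_tw6`.
-/

set_option autoImplicit false
set_option linter.unusedSectionVars false
set_option maxHeartbeats 400000

namespace Cfsg.Agent.PQ.Dg

open Cfsg Cfsg.Lie Cfsg.Agent.DL Cfsg.Agent.DL.Ex Cfsg.Agent.KZ.DatX Cfsg.Agent.LV Cfsg.Agent.KM Cfsg.Agent.PQ.Two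
  Cfsg.Agent.ChevalleyStructure.CoxeterGeomTypes Cfsg.Agent.Nodes.RGDChev Cfsg.Agent.ChevalleyStructure.NPerm Matrix

theorem sec_of_over {Y S : Type} [Group Y] [Group S] {F : MulAut Y} {G T : Subgroup Y} {ι : S →* Y} {d : ℕ}
    (O : Over F G T ι d) : Sec d ↥(GF F G) S :=
  ⟨O.hom.range, (MonoidHom.ofInjective O.hom_inj).symm.toMonoidHom, O.normal, O.pow_mem,
    (MonoidHom.ofInjective O.hom_inj).symm.surjective, fun z hz => by
      rw [(MonoidHom.ofInjective O.hom_inj).symm.map_eq_one_iff.1 hz, one_pow]⟩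

variable (I : Inp)
include I

theorem ex_has {C : ChevalleyDatum} {n : ℕ} {M : CoxeterMatrix (Fin n)} {hp : IsType C n M} {b : ℕ} (hB : BoxX hp b) {r : ℕ}
    [Fact r.Prime] {Mx : Matrix (Fin n) (Fin n) ℤ} {d : ℕ} {S : Type} [Group S] (H : Nt.HasNT hp r Mx d S) {l q : ℕ}
    {𝔐 : Ideal AlgInt} (hM : IsPModular q 𝔐) (h : Pair l q S) (hr : l ≠ r ∧ q ≠ r) (hd : d ∣ 6) (h5 : 5 ≤ b)
    (hb : ∀ l, l.Prime → l ≠ 2 → l ≠ r → AbS l S → b ≤ l) : HZ0 l 𝔐 S := by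
  obtain ⟨k, _, _, _, X, hN, ⟨s⟩⟩ := H
  have := X.finite
  have := Fintype.ofFinite ↥(GF X.F ⊤)
  have h1 := hb l h.pp h.p2 hr.1 h.abp
  have h2 := hb q h.pq h.q2 hr.2 h.abq
  have h3 : ∀ l, l.Prime → b ≤ l → ¬ l ∣ d := fun l hl h4 e => by
    rcases (Nat.Prime.dvd_mul hl).1 (show l ∣ 2 * 3 from e.trans hd) with e | e <;> have := Nat.le_of_dvd (by decide) e <;> omega
  exact fw_sec I X.D_qs hN (sec_of_over s.ov) hM h hr.1 (h3 l h.pp h1) (h3 q h.pq h2) (two_X hB X h.pp h.pq h1 h2 hr.1 hr.2)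

omit I in
theorem nd_card {F : Type} [Fintype F] {r e l : ℕ} [Fact r.Prime] (hF : Fintype.card F = r ^ e) (hl : l.Prime) (h : l ≠ r) :
    ¬ l ∣ Fintype.card F := fun h1 =>
  h ((Nat.prime_dvd_prime_iff_eq hl Fact.out).1 (hl.dvd_of_dvd_pow (hF ▸ h1)))

omit I in
theorem ex_five {F S : Type} [Field F] [Fintype F] [Group S] {r e : ℕ} [Fact r.Prime] (hF : Fintype.card F = r ^ e)
    {D : ChevalleyDatum} (hD : D ∈ [chevG2, chevF4, chevE6, chevE7, chevE8]) (i : S ≃* ↥(D.group F)) (l : ℕ) (hl : l.Prime)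
    (h2 : l ≠ 2) (hr : l ≠ r) (hA : AbS l S) : 5 ≤ l :=
  hl.five_le_of_ne_two_of_ne_three h2 fun h3 => by
    subst h3
    exact H371.HT.not_ab_untw hD (nd_card hF hl hr) (hA.of_equiv i)

theorem ex_f4 : All (fun S _ => IsoF4 S) Fw := by
  rintro S _ _ - - ⟨F, iF, iT, ⟨i⟩⟩ l q M hM h
  obtain ⟨r, e, _, iC, -, -, hF, -⟩ := exists_closure F
  exact ex_has I boxF4 ((Nt.has_F4 hF).congr i) hM h
    (h.nc r Fact.out (.inr (.inr (.inr (.inr (.inr (.inr (.inl ⟨F, iF, iT, iC, .inr (.inl ⟨i⟩)⟩))))))))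
    (by decide) le_rfl (ex_five hF (by simp) i)

theorem ex_e6 : All (fun S _ => IsoChevE6 S) Fw := by
  rintro S _ _ - - ⟨F, iF, iT, ⟨i⟩⟩ l q M hM h
  obtain ⟨r, e, _, iC, -, -, hF, -⟩ := exists_closure F
  exact ex_has I boxE6 ((Nt.has_E6 hF).congr i) hM h
    (h.nc r Fact.out (.inr (.inr (.inr (.inr (.inr (.inr (.inl ⟨F, iF, iT, iC, .inr (.inr (.inl ⟨i⟩))⟩))))))))
    ((Nat.gcd_dvd_left _ _).trans (by decide)) le_rfl (ex_five hF (by simp) i)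

theorem ex_e7 : All (fun S _ => IsoE7 S) Fw := by
  rintro S _ _ - - ⟨F, iF, iT, ⟨i⟩⟩ l q M hM h
  obtain ⟨r, e, _, iC, -, -, hF, -⟩ := exists_closure F
  exact ex_has I boxE7 ((Nt.has_E7 hF).congr i) hM h
    (h.nc r Fact.out (.inr (.inr (.inr (.inr (.inr (.inr (.inl ⟨F, iF, iT, iC, .inr (.inr (.inr (.inl ⟨i⟩)))⟩))))))))
    ((Nat.gcd_dvd_left _ _).trans (by decide)) le_rfl (ex_five hF (by simp) i)

theorem ex_e8 : All (fun S _ => IsoE8 S) Fw := by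
  rintro S _ _ - - ⟨F, iF, iT, ⟨i⟩⟩ l q M hM h
  obtain ⟨r, e, _, iC, -, -, hF, -⟩ := exists_closure F
  refine ex_has I boxE8 ((Nt.has_E8 hF).congr i) hM h
    (h.nc r Fact.out (.inr (.inr (.inr (.inr (.inr (.inr (.inl ⟨F, iF, iT, iC, .inr (.inr (.inr (.inr ⟨i⟩)))⟩))))))))
    (by decide) (by decide) fun l hl h2 hr hA => ?_
  have h5 := ex_five hF (by simp) i l hl h2 hr hA
  have h6 : l ≠ 5 := fun h3 => by
    subst h3
    exact H371.HT.not_ab_e8_five (nd_card hF hl hr) (hA.of_equiv i)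
  have h7 : l ≠ 6 := fun h3 => by
    subst h3
    norm_num at hl
  omega

theorem ex_tw6 : All (fun S _ => Iso2E6 S) Fw := by
  rintro S _ _ - - ⟨F, iF, iT, q₀, hq, hF, ⟨i⟩⟩ l q M hM h
  obtain ⟨r, e, _, iC, -, -, rfl, -⟩ := Tw.setup hq two_ne_zero hF
  refine ex_has I boxE6 ((Nt.has_2E6 hF).congr i) hM h
    (h.nc r Fact.out (.inr (.inr (.inr (.inr (.inr (.inr (.inr (.inl ⟨F, iF, iT, iC, _, hq, .inl ⟨hF, ⟨i⟩⟩⟩)))))))))
    ((Nat.gcd_dvd_left _ _).trans (by decide)) le_rfl fun l hl h2 hr hA =>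
      hl.five_le_of_ne_two_of_ne_three h2 fun h3 => ?_
  subst h3
  exact H371.HT.not_ab_twE6 hq hF (nd_card (hF.trans (pow_mul _ _ _).symm) hl hr) (hA.of_equiv i)

end Cfsg.Agent.PQ.Dg
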