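import Cfsg.Agent.KM.Deg.Defs
import Cfsg.Agent.PQ.Sm.Gen
import Cfsg.Agent.PQ.Red.C
import Mathlib.NumberTheory.PrimesCongruentOne

/-!
# PQ, the forward direction from the content of the degree polynomial (helper56)

* `Sec d Γ S` : `S` is a quotient of a normal subgroup of `Γ`, both steps of exponent dividing `d`; `Sec.hz`, `Sec.abS`,
  `Sec.com`;
* `nt_of` : the level of the Frobenius map from the matrix;
* `hz_deg` : one torus which contains Sylow subgroups for both primes;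
* `Two D l q`, `fw_sec`.
-/

set_option autoImplicit false
set_option linter.unusedSectionVars false

namespace Cfsg.Agent.PQ.Dg

open Cfsg Cfsg.Agent.DL Cfsg.Agent.DL.PP Cfsg.Agent.DL.Uni Cfsg.Agent.DL.Asm Cfsg.Agent.KZ.Lie Cfsg.Agent.LV
  Cfsg.Agent.LV.Blk Cfsg.Agent.LV.One Cfsg.Agent.KM Cfsg.Agent.PQ.Red Polynomial Matrix

/-- `S` is a quotient of a normal subgroup of `Γ` -/
def Sec (d : ℕ) (Γ S : Type) [Group Γ] [Group S] : Prop :=
  ∃ (H : Subgroup Γ) (π : H →* S), H.Normal ∧ (∀ g, g ^ d ∈ H) ∧ Function.Surjective π ∧ ∀ z, π z = 1 → z ^ d = 1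

section Sec

variable {Γ S : Type} [Group Γ] [Group S] [Finite Γ] {d l q : ℕ}

theorem not_dvd_card (hl : l.Prime) (hd : ¬ l ∣ d) (h : ∀ z : Γ, z ^ d = 1) : ¬ l ∣ Nat.card Γ := fun e => by
  have := Fact.mk hl
  obtain ⟨z, hz⟩ := exists_prime_orderOf_dvd_card' l e
  exact hd (hz ▸ orderOf_dvd_of_pow_eq_one (h z))

theorem not_dvd_index (hl : l.Prime) (hd : ¬ l ∣ d) {H : Subgroup Γ} [H.Normal] (h : ∀ g, g ^ d ∈ H) : ¬ l ∣ H.index :=
  not_dvd_card (Γ := Γ ⧸ H) hl hd fun z => by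
    obtain ⟨g, rfl⟩ := QuotientGroup.mk_surjective z
    rw [← QuotientGroup.mk_pow, QuotientGroup.eq_one_iff]
    exact h g

theorem not_dvd_ker (hl : l.Prime) (hd : ¬ l ∣ d) {π : Γ →* S} (h : ∀ z, π z = 1 → z ^ d = 1) : ¬ l ∣ Nat.card π.ker :=
  not_dvd_card hl hd fun z => Subtype.ext (h z.1 z.2)

theorem Sec.hz (h : Sec d Γ S) {M : Ideal AlgInt} (hM : IsPModular q M) (hz : HZ0 l M Γ) : HZ0 l M S := by
  obtain ⟨H, π, h1, -, h3, -⟩ := h
  exact hz_surj hM (hz_normal hM hz H) π h3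

theorem Sec.abS (h : Sec d Γ S) (hl : l.Prime) (hd : ¬ l ∣ d) (hA : AbS l S) : AbS l Γ := by
  obtain ⟨H, π, -, h3, -, h4⟩ := h
  have : Fact l.Prime := ⟨hl⟩
  have h5 : ∀ j, d.Coprime (l ^ j) := fun j => (hl.coprime_iff_not_dvd.2 hd).symm.pow_right j
  refine abS_iff.2 fun P a ha b hb => ?_
  have h6 : ∀ x ∈ (P : Subgroup Γ), ∃ j, orderOf x = l ^ j := fun x hx => order_of_mem hl P.isPGroup' hx
  have h7 : ∀ x ∈ (P : Subgroup Γ), x ∈ H := fun x hx => by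
    obtain ⟨j, hj⟩ := h6 x hx
    obtain ⟨u, hu⟩ := exists_pow_eq_self_of_coprime (x := x) (n := d) (hj ▸ h5 j)
    exact hu ▸ pow_mem (h3 x) u
  obtain ⟨Q, hQ⟩ := ((P.isPGroup'.comap_subtype (K := H)).map π).exists_le_sylow
  have h8 := abS_iff.1 hA Q _ (hQ ⟨⟨a, h7 a ha⟩, ha, rfl⟩) _ (hQ ⟨⟨b, h7 b hb⟩, hb, rfl⟩)
  have h9 := congrArg Subtype.val (h4 (⟨a, h7 a ha⟩ * ⟨b, h7 b hb⟩ * (⟨b, h7 b hb⟩ * ⟨a, h7 a ha⟩)⁻¹) (by
    rw [map_mul, map_inv, map_mul, map_mul, h8, mul_inv_cancel]))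
  obtain ⟨j, hj⟩ := h6 (a * b * (b * a)⁻¹) (mul_mem (mul_mem ha hb) (inv_mem (mul_mem hb ha)))
  exact mul_inv_eq_one.1 ((pow_eq_one_iff_of_coprime (h5 j)).1 ⟨h9, hj ▸ pow_orderOf_eq_one _⟩)

theorem com_up (hl : l.Prime) (hq : q.Prime) {H : Subgroup Γ} (h1 : ¬ l ∣ H.index) (h2 : ¬ q ∣ H.index) (h : Com l q H) :
    Com l q Γ := by
  have := Fact.mk hl
  have := Fact.mk hq
  obtain ⟨P, Q, h⟩ := h
  refine com_mk hl hq (P.isPGroup'.map H.subtype) ?_ (Q.isPGroup'.map H.subtype) ?_ ?_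
  · rw [Subgroup.index_map_subtype]
    exact fun e => (hl.dvd_mul.1 e).elim P.not_dvd_index h1
  · rw [Subgroup.index_map_subtype]
    exact fun e => (hq.dvd_mul.1 e).elim Q.not_dvd_index h2
  · rintro _ ⟨x, hx, rfl⟩ _ ⟨y, hy, rfl⟩
    exact congrArg Subtype.val (h x hx y hy)

theorem Sec.com (h : Sec d Γ S) (hl : l.Prime) (hq : q.Prime) (hne : l ≠ q) (hld : ¬ l ∣ d) (hqd : ¬ q ∣ d) (hc : Com l q S) :
    Com l q Γ := by
  obtain ⟨H, π, h1, h2, h3, h4⟩ := h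
  have : Finite S := Finite.of_surjective π h3
  refine com_up hl hq (not_dvd_index hl hld h2) (not_dvd_index hq hqd h2) (com_glue hl hq hne π.ker
    (Sm.com_equiv hl hq (QuotientGroup.quotientKerEquivOfSurjective π h3).symm hc)
    (com_of_not_dvd hl hq (not_dvd_ker hq hqd h4)) (inn2_of_not_dvd hl (not_dvd_ker hl hld h4))
    (inn2_of_not_dvd hq (not_dvd_ker hq hqd h4)))

end Sec

variable {p : ℕ} [Fact p.Prime] {k : Type} [Field k] [CharP k p] {Y : Type} [Group Y] {N : Type} [Fintype N]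
  [DecidableEq N] {ρ : Y →* GL N k} {F : MulAut Y} {G : Subgroup Y} [IsAlgClosed k] {D : Datum p ρ F G}

variable (D) in
theorem nt_of [Nonempty D.R] {a n : ℕ} (ha : 0 < a) (h : D.Mx ^ a = ((p : ℤ) ^ n) ^ a • (1 : Matrix D.R D.R ℤ)) :
    Deg.NT p ρ F := by
  obtain ⟨d, e, H⟩ := D.exists_split'
  have h1 : ((p : ℤ) ^ (e * a)) • (1 : Matrix D.R D.R ℤ) = ((p : ℤ) ^ (n * d * a)) • (1 : Matrix D.R D.R ℤ) := by
    have h2 := congrArg (· ^ a) (D.Mx_pow H)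
    have h3 := congrArg (· ^ d) h
    simp only [_root_.smul_pow, one_pow, ← pow_mul] at h2 h3
    rw [← h2, mul_comm d, h3, mul_right_comm]
  have h2 := smul_left_injective ℤ (one_ne_zero (α := Matrix D.R D.R ℤ)) h1
  have h3 : e = n * d := Nat.eq_of_mul_eq_mul_right ha
    (Nat.pow_right_injective (Fact.out : p.Prime).two_le (by exact_mod_cast h2))
  exact ⟨n, d, Nat.pos_of_mul_pos_right (h3 ▸ H.e_pos), H.d_pos, h3 ▸ H.frob⟩

variable [Fintype ↥(GF F G)] {l q : ℕ} {w : D.W}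

/-- the degree is prime to `l` if the support meets a Sylow torus -/
theorem not_dvd_deg (f : Fr D) (hq : D.QS) {χ : GF F G → ℂ} (hL : LfE f χ) (hχ : IsIrrCharacter (GF F G) χ) (hl : l.Prime)
    (hD : Ht.DEG f χ l) (hS : SylT D l w) (h0 : ∑ᶠ c, classInner χ (RW f w c) ≠ 0) : ¬ l ∣ charDegree χ := fun hd => by
  obtain ⟨c, n, u, Q, h1, h2, h3, -, h4⟩ := exists_deg f hq hL hχ
  have h5 := Int.natAbs_dvd_natAbs.2 (eval_dvd (x := 1) (h4 w h0))
  rw [eval_mul, Pw_one, h3, Int.natAbs_mul, Int.natAbs_mul, Int.natAbs_natCast, Int.natAbs_natCast,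
    show (sgZ D w).natAbs = 1 by rcases sgZ_sign D w with h | h <;> simp [h], one_mul] at h5
  have h6 : ¬ (l : ℤ) ∣ u.eval 1 := fun e => by
    have h7 := (Nat.factorization_le_iff_dvd (mul_pos hl.pos (Nat.pos_of_ne_zero (ordT_ne w))).ne' Nat.card_pos.ne').2
      ((mul_dvd_mul_right (Int.natCast_dvd.1 e) _).trans (h5.trans (Dvd.intro_left _ (pc_mul_pc' p (GF F G))))) l
    rw [hS, Nat.factorization_mul hl.ne_zero (ordT_ne w), Finsupp.add_apply, hl.factorization_self] at h7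
    omega
  have h7 : c.num * u.eval 1 = c.den * charDegree χ := Int.cast_injective (α := ℚ) (by
    rw [Int.cast_mul, Int.cast_mul, Int.cast_natCast, Int.cast_natCast, ← h2, ← mul_assoc, Rat.den_mul_eq_num])
  have h8 := ((Nat.prime_iff_prime_int.1 hl).dvd_or_dvd (h7 ▸ (Int.natCast_dvd_natCast.2 hd).mul_left _)).resolve_right h6
  refine hD _ h1 c.num c.den (X ^ n * u) (by rw [← mul_assoc, ← C_mul, Int.cast_natCast, Rat.den_mul_eq_num])
    (fun e => hl.not_dvd_one ?_) h8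
  rw [← c.reduced]
  exact Nat.dvd_gcd (Int.natCast_dvd.1 h8) (Int.natCast_dvd_natCast.1 e)

/-- the lifting theorem -/
def BoxLfE : Prop := ∀ {p : ℕ} [Fact p.Prime] {k : Type} [Field k] [CharP k p] {Y : Type} [Group Y] {N : Type} [Fintype N]
  [DecidableEq N] {ρ : Y →* GL N k} {F : MulAut Y} {G : Subgroup Y} [IsAlgClosed k] {D : Datum p ρ F G} (f : Fr D)
  [Fintype ↥(GF F G)] {χ : GF F G → ℂ}, D.QS → IsIrrCharacter (GF F G) χ → LfE f χ

theorem lfE_of_lf (h : Ht.BoxLf) : BoxLfE := fun f _ χ hq hχ => (h f hq χ hχ).lfE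

theorem lfE_of_bij (h : Deg.BoxBij) : BoxLfE := fun f _ χ hq hχ B M hM => by
  obtain ⟨B', M', hM', H⟩ := h f hq
  have : NeZero (M * M') := ⟨mul_ne_zero hM hM'⟩
  obtain ⟨l, h1, hl, h2⟩ := Nat.exists_prime_gt_modEq_one (max B B') (mul_ne_zero hM hM')
  obtain ⟨i, f', e, -, -, h3⟩ := H l h1 ((le_max_right _ _).trans_lt hl) (h2.of_mul_left _)
  obtain ⟨ε, h4, h5⟩ := h3 ⟨χ, hχ⟩
  exact ⟨l, h1.pos, i, f', _, ε, (le_max_left _ _).trans_lt hl, h2.of_mul_right _, (e ⟨χ, hχ⟩).2, h4, h5⟩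

/-- the two inputs -/
structure Inp : Prop where
  lf : BoxLfE
  deg : Deg.BoxDEG

/-- **One torus which contains Sylow subgroups for both primes.** -/
theorem hz_deg (I : Inp) (hq : D.QS) (hN : Deg.NT p ρ F) {M : Ideal AlgInt} (hM : IsPModular q M) (hl : l.Prime) (hp : l ≠ p)
    (hL : SylT D l w) (hS : SylT D q w) : HZ0 l M ↥(GF F G) := fun χ hχ => by
  obtain ⟨f⟩ := nonempty_fr D
  have := Fintype.ofFinite (FS D w)
  exact not_dvd_deg f hq (I.lf f hq χ.2) χ.2 hl (I.deg f hq hN χ.1 χ.2 l hl hp) hL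
    (by rw [tot_fin]; exact Sm.tot_ne f hM hS hχ)

variable (D l q) in
/-- commuting abelian Sylow subgroups lie in one torus -/
def Two : Prop := AbS l ↥(GF F G) → AbS q ↥(GF F G) → Com l q ↥(GF F G) → ∃ w, SylT D l w ∧ SylT D q w

/-- **The forward direction for a section.** -/
theorem fw_sec (I : Inp) (hq : D.QS) (hN : Deg.NT p ρ F) {d : ℕ} {S : Type} [Group S] (s : Sec d ↥(GF F G) S)
    {M : Ideal AlgInt} (hM : IsPModular q M) (h : Pair l q S) (hp : l ≠ p) (hld : ¬ l ∣ d) (hqd : ¬ q ∣ d) (hT : Two D l q) :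
    HZ0 l M S :=
  let ⟨_, h1, h2⟩ := hT (s.abS h.pp hld h.abp) (s.abS h.pq hqd h.abq) (s.com h.pp h.pq h.ne hld hqd h.com)
  s.hz hM (hz_deg I hq hN hM h.pp hp h1 h2)

end Cfsg.Agent.PQ.Dg
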